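import Cfsg.Agent.PComp40.SixtyFour
import Cfsg.Agent.Lib.BlocksCore.PPart

/-!
# Products of two involutions when the involutions of a Sylow 2-subgroup are central

The 2-part of the product of two involutions has square one; so no product lies in the 2-section of
an element of the kernel of order above two.
-/

set_option autoImplicit false
set_option linter.style.haveILetI false

namespace Cfsg.Agent.PComp40.SixtyFourCount

open BlocksCore

universe u

variable {G : Type u} [Group G] [Finite G] {P : Sylow 2 G} {L : Type u} [Group L] [Fintype L]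
  {F : Frame P L}

omit [Finite G] in
theorem commute_of_sq_eq_one (hF : SixtyFour F) {x y : G} (hx : x ∈ (P : Subgroup G))
    (hy : y ∈ (P : Subgroup G)) (h : x ^ 2 = 1) : x * y = y * x := by
  obtain ⟨a, rfl⟩ := F.exists_ι_eq hx
  obtain ⟨b, rfl⟩ := F.exists_ι_eq hy
  have ha : a ∈ Subgroup.center F.K :=
    (hF.mem_center a).2 (F.ι_injective (by rw [map_pow, h, map_one]))
  rw [← map_mul, ← map_mul, Subgroup.mem_center_iff.1 ha b]

/-- The 2-part of a product of two involutions has square one. -/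
theorem sq_ppart_mul (hF : SixtyFour F) {u v s : G} (hu : u ^ 2 = 1) (hv : v ^ 2 = 1)
    (hs : Cfsg.IsPPart 2 (v * u) s) : s ^ 2 = 1 := by
  have hu' : u⁻¹ = u := by rw [inv_eq_iff_mul_eq_one, ← sq, hu]
  have hv' : v⁻¹ = v := by rw [inv_eq_iff_mul_eq_one, ← sq, hv]
  obtain ⟨x, y, h1, h2, h3, h4, hxm, -⟩ := exists_isPPart (p := 2) Nat.prime_two (v * u)
  have hsx : s = x := isPPart_unique Nat.prime_two hs ⟨y, h1, h2, h3, h4⟩
  obtain ⟨i, hi⟩ := Subgroup.mem_zpowers_iff.1 hxm
  have hinv : u * s * u⁻¹ = s⁻¹ := by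
    rw [hsx, ← hi, ← MulAut.conj_apply, map_zpow, ← inv_zpow]
    congr 1
    rw [MulAut.conj_apply, mul_inv_rev, hu', hv']
    calc u * (v * u) * u = u * v * (u ^ 2) := by rw [sq]; group
      _ = u * v := by rw [hu, mul_one]
  obtain ⟨k, hk⟩ := h3
  have hS : IsPGroup 2 (Subgroup.zpowers s) :=
    IsPGroup.of_card (n := k) (by rw [Nat.card_zpowers, hsx, hk])
  have hU : IsPGroup 2 (Subgroup.zpowers u) := by
    have hd : Nat.card (Subgroup.zpowers u) ∣ 2 := by
      rw [Nat.card_zpowers]
      exact orderOf_dvd_of_pow_eq_one hu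
    obtain ⟨n, -, hn⟩ := (Nat.dvd_prime_pow Nat.prime_two).1
      (show Nat.card (Subgroup.zpowers u) ∣ 2 ^ 1 by simpa using hd)
    exact IsPGroup.of_card (n := n) hn
  have hnorm : Subgroup.zpowers u ≤ Subgroup.normalizer (Subgroup.zpowers s : Set G) := by
    rw [Subgroup.zpowers_le, Subgroup.mem_normalizer_iff]
    intro w
    constructor
    · intro hw
      obtain ⟨j, rfl⟩ := Subgroup.mem_zpowers_iff.1 hw
      rw [← MulAut.conj_apply, map_zpow, MulAut.conj_apply, hinv]
      exact Subgroup.zpow_mem _ (inv_mem (Subgroup.mem_zpowers s)) j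
    · intro hw
      obtain ⟨j, hj⟩ := Subgroup.mem_zpowers_iff.1 hw
      have e : w = u * (s ^ j) * u⁻¹ := by
        rw [hj, hu']
        calc w = u ^ 2 * w * u ^ 2 := by rw [hu, one_mul, mul_one]
          _ = u * (u * w * u) * u := by rw [sq]; group
      rw [e, ← MulAut.conj_apply, map_zpow, MulAut.conj_apply, hinv]
      exact Subgroup.zpow_mem _ (inv_mem (Subgroup.mem_zpowers s)) j
  obtain ⟨Q, hQ⟩ := (hU.to_sup_of_normal_right' hS hnorm).exists_le_sylow
  obtain ⟨g, hg⟩ := MulAction.exists_smul_eq G Q P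
  have hmem : ∀ w ∈ (Subgroup.zpowers u ⊔ Subgroup.zpowers s : Subgroup G),
      MulAut.conj g w ∈ (P : Subgroup G) := by
    intro w hw
    rw [← hg, Sylow.coe_subgroup_smul]
    exact Subgroup.smul_mem_pointwise_smul _ _ _ (hQ hw)
  have huS : u ∈ Subgroup.zpowers u ⊔ Subgroup.zpowers s :=
    Subgroup.mem_sup_left (Subgroup.mem_zpowers u)
  have hus : (u * s) ^ 2 = 1 := by
    rw [sq]
    calc u * s * (u * s) = u * s * u⁻¹ * s := by rw [hu']; group
      _ = 1 := by rw [hinv, inv_mul_cancel]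
  have hcomm := commute_of_sq_eq_one hF (hmem u huS)
    (hmem (u * s) (mul_mem huS (Subgroup.mem_sup_right (Subgroup.mem_zpowers s))))
    (by rw [← map_pow, hu, map_one])
  rw [← map_mul, ← map_mul] at hcomm
  have hcomm' := (MulAut.conj g).injective hcomm
  have : s = s⁻¹ := by
    rw [← hinv]
    calc s = u ^ 2 * s := by rw [hu, one_mul]
      _ = u * (u * s) := by rw [sq, mul_assoc]
      _ = u * s * u⁻¹ := by rw [hcomm', hu']
  rw [sq]
  nth_rewrite 1 [this]
  exact inv_mul_cancel s

end Cfsg.Agent.PComp40.SixtyFourCount
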