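import Cfsg.Agent.PComp40.SixtyFourCount.Arith
import Mathlib.Algebra.BigOperators.Ring.Finset
import Mathlib.Algebra.Order.BigOperators.Group.Finset
import Mathlib.Data.Finset.Card
import Mathlib.Tactic.LinearCombination

/-!
# From the relations between the columns to the arithmetic

`b` is the value off the centre without the family part, `c` the value at a central involution and
`d` the degree; five members form the family.
-/

set_option autoImplicit false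

namespace Cfsg.Agent.PComp40.SixtyFourCount

/-- The relations between the three columns are impossible. -/
theorem false_of_sums {κ : Type*} [DecidableEq κ] (B I : Finset κ) (o : κ) (b c d : κ → ℤ)
    {ε b₀ h D : ℤ} (hε : ε = 1 ∨ ε = -1) (hoB : o ∈ B) (hoI : o ∉ I) (hIB : I ⊆ B)
    (hI : I.card = 5) (hbo : b o = 1) (hco : c o = 1) (hdo : d o = 1)
    (hbI : ∀ i ∈ I, b i = b₀) (hcI : ∀ i ∈ I, c i = h) (hdI : ∀ i ∈ I, d i = D)
    (hmod : ∀ i ∈ B, i ∉ I → 4 ∣ c i - b i) (hmodI : 4 ∣ h - b₀ - 3 * ε)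
    (hlow : ∀ i ∈ B, i ≠ o → c i + 16 ≤ d i)
    (hP : ∑ i ∈ B, b i ^ 2 - 2 * ε * b₀ = 3) (hN : ∑ i ∈ B, c i ^ 2 = 64)
    (hB : ∑ i ∈ B, c i * b i - ε * h = 0)
    (hE : ∑ i ∈ B, (c i : ℚ) ^ 2 / (d i) * (b i) - (ε : ℚ) * (h : ℚ) ^ 2 / D = 0) : False := by
  set R := B \ insert o I with hR
  have hsub : insert o I ⊆ B := Finset.insert_subset hoB hIB
  have hsplit : ∀ f : κ → ℤ, ∑ i ∈ B, f i = ∑ i ∈ R, f i + (f o + ∑ i ∈ I, f i) := fun f => by
    rw [← Finset.sum_sdiff hsub, Finset.sum_insert hoI]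
  have hsum : ∀ (f : κ → ℤ) (v : ℤ), (∀ i ∈ I, f i = v) → ∑ i ∈ I, f i = 5 * v := fun f v hf => by
    rw [Finset.sum_congr rfl hf, Finset.sum_const, hI, nsmul_eq_mul]
    push_cast
    rfl
  have hPs := hP
  rw [hsplit, hbo, hsum _ (b₀ ^ 2) fun i hi => by rw [hbI i hi]] at hPs
  have hR0 : 0 ≤ ∑ i ∈ R, b i ^ 2 := Finset.sum_nonneg fun i _ => sq_nonneg _
  have hb₀ : b₀ = 0 := by
    have h1 : b₀ ≤ 1 ∧ -1 ≤ b₀ := by
      constructor <;> rcases hε with rfl | rfl <;> nlinarith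
    obtain ⟨h2, h3⟩ := h1
    rcases hε with rfl | rfl <;> interval_cases b₀ <;> linarith
  subst hb₀
  have hP2 : ∑ i ∈ R, b i ^ 2 = 2 := by linarith
  set T := R.filter fun i => b i ≠ 0 with hT
  have hTsum : ∀ f : κ → ℤ, ∑ i ∈ R, f i * b i = ∑ i ∈ T, f i * b i := fun f =>
    (Finset.sum_filter_of_ne fun i _ hi => right_ne_zero_of_mul hi).symm
  have hT2 : ∑ i ∈ T, b i ^ 2 = 2 := by
    simpa only [sq] using (hTsum b).symm.trans (by simpa only [sq] using hP2)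
  have hone : ∀ i ∈ T, b i = 1 ∨ b i = -1 := by
    intro i hi
    have h1 := Finset.single_le_sum (fun j _ => sq_nonneg (b j)) hi
    rw [hT2] at h1
    have h0 := (Finset.mem_filter.1 hi).2
    have hu : b i ≤ 1 := by nlinarith
    have hl : -1 ≤ b i := by nlinarith
    omega
  have hcard : T.card = 2 := by
    rw [Finset.sum_congr rfl (g := fun _ => (1 : ℤ)) fun i hi => by
      rcases hone i hi with e | e <;> rw [e] <;> norm_num, Finset.sum_const, nsmul_one] at hT2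
    exact_mod_cast hT2
  obtain ⟨t₁, t₂, hne, hTeq⟩ := Finset.card_eq_two.1 hcard
  have hmem : ∀ i ∈ T, i ∈ B ∧ i ≠ o ∧ i ∉ I := by
    intro i hi
    have h1 := Finset.mem_sdiff.1 (Finset.mem_filter.1 hi).1
    rw [Finset.mem_insert, not_or] at h1
    exact ⟨h1.1, h1.2.1, h1.2.2⟩
  have ht₁ : t₁ ∈ T := by simp [hTeq]
  have ht₂ : t₂ ∈ T := by simp [hTeq]
  obtain ⟨hB₁, ho₁, hI₁⟩ := hmem t₁ ht₁
  obtain ⟨hB₂, ho₂, hI₂⟩ := hmem t₂ ht₂
  have hI0 : I.Nonempty := Finset.card_pos.1 (by omega)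
  obtain ⟨j, hj⟩ := hI0
  have hjo : j ≠ o := fun e => hoI (e ▸ hj)
  have hD : h + 16 ≤ D := by
    rw [← hcI j hj, ← hdI j hj]
    exact hlow j (hIB hj) hjo
  have hbI0 : ∀ (f : κ → ℤ), ∀ i ∈ I, f i * b i = 0 := fun f i hi => by rw [hbI i hi, mul_zero]
  have hB' : 1 + b t₁ * c t₁ + b t₂ * c t₂ = ε * h := by
    rw [hsplit, hbo, hco, hsum _ 0 (hbI0 c), hTsum, hTeq, Finset.sum_pair hne] at hB
    linarith
  have hN' : c t₁ ^ 2 + c t₂ ^ 2 + 5 * h ^ 2 ≤ 63 := by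
    rw [hsplit, hco, hsum _ (h ^ 2) fun i hi => by rw [hcI i hi]] at hN
    have h1 : ∑ i ∈ T, c i ^ 2 ≤ ∑ i ∈ R, c i ^ 2 :=
      Finset.sum_le_sum_of_subset_of_nonneg (Finset.filter_subset _ _) fun i _ _ => sq_nonneg _
    rw [hTeq, Finset.sum_pair hne] at h1
    linarith
  refine false_of_relations (hone t₁ ht₁) (hone t₂ ht₂) hε (hmod t₁ hB₁ hI₁) (hmod t₂ hB₂ hI₂)
    (by simpa using hmodI) (hlow t₁ hB₁ ho₁) (hlow t₂ hB₂ ho₂) hD hB' hN' ?_
  rw [← Finset.sum_sdiff hsub, Finset.sum_insert hoI, hbo, hco, hdo, ← hR,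
    Finset.sum_eq_zero (s := I) fun i hi => by rw [hbI i hi]; simp,
    ← Finset.sum_filter_of_ne (s := R) (p := fun i => b i ≠ 0) fun i _ hi h0 =>
      hi (by rw [h0]; simp), ← hT, hTeq, Finset.sum_pair hne] at hE
  push_cast at hE
  linear_combination hE

end Cfsg.Agent.PComp40.SixtyFourCount
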