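import Mathlib.Data.Rat.Defs
import Mathlib.Tactic.Linarith
import Mathlib.Tactic.Ring
import Mathlib.Tactic.FieldSimp
import Mathlib.Tactic.IntervalCases
import Mathlib.Tactic.Positivity
import Mathlib.Tactic.GCongr

/-!
# The arithmetic at the end of the count for the kernel of order 64
-/

set_option autoImplicit false

namespace Cfsg.Agent.PComp40.SixtyFourCount

private theorem false_of_bounds {a₁ a₂ w d₁ d₂ D m₁ m₂ m : ℚ} {δ₁ δ₂ ε : ℚ}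
    (hδ₁ : δ₁ = 1 ∨ δ₁ = -1) (hδ₂ : δ₂ = 1 ∨ δ₂ = -1) (hε : ε = 1 ∨ ε = -1)
    (h₁ : 0 ≤ a₁) (h₂ : 0 ≤ a₂) (hw : 0 ≤ w) (hm₁ : 0 < m₁) (hm₂ : 0 < m₂) (hm : 0 < m)
    (hd₁ : m₁ ≤ d₁) (hd₂ : m₂ ≤ d₂) (hD : m ≤ D) (hlt : w / m < 1 - a₁ / m₁ - a₂ / m₂)
    (heq : 1 + δ₁ * a₁ / d₁ + δ₂ * a₂ / d₂ = ε * w / D) : False := by
  have e₁ : a₁ / d₁ ≤ a₁ / m₁ := div_le_div_of_nonneg_left h₁ hm₁ hd₁
  have e₂ : a₂ / d₂ ≤ a₂ / m₂ := div_le_div_of_nonneg_left h₂ hm₂ hd₂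
  have e : w / D ≤ w / m := div_le_div_of_nonneg_left hw hm hD
  have p₁ : 0 ≤ a₁ / d₁ := div_nonneg h₁ (le_trans hm₁.le hd₁)
  have p₂ : 0 ≤ a₂ / d₂ := div_nonneg h₂ (le_trans hm₂.le hd₂)
  have p : 0 ≤ w / D := div_nonneg hw (le_trans hm.le hD)
  simp only [mul_div_assoc] at heq
  rcases hδ₁ with rfl | rfl <;> rcases hδ₂ with rfl | rfl <;> rcases hε with rfl | rfl <;> linarith

/-- The two exceptional characters and the family do not fit the three relations. -/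
theorem false_of_relations {c₁ c₂ d₁ d₂ h D δ₁ δ₂ ε : ℤ}
    (hδ₁ : δ₁ = 1 ∨ δ₁ = -1) (hδ₂ : δ₂ = 1 ∨ δ₂ = -1) (hε : ε = 1 ∨ ε = -1)
    (hc₁ : 4 ∣ c₁ - δ₁) (hc₂ : 4 ∣ c₂ - δ₂) (hh : 4 ∣ h - 3 * ε)
    (hd₁ : c₁ + 16 ≤ d₁) (hd₂ : c₂ + 16 ≤ d₂) (hD : h + 16 ≤ D)
    (hB : 1 + δ₁ * c₁ + δ₂ * c₂ = ε * h)
    (hN : c₁ ^ 2 + c₂ ^ 2 + 5 * h ^ 2 ≤ 63)
    (hE : 1 + (δ₁ : ℚ) * (c₁ : ℚ) ^ 2 / d₁ + (δ₂ : ℚ) * (c₂ : ℚ) ^ 2 / d₂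
      = (ε : ℚ) * (h : ℚ) ^ 2 / D) : False := by
  obtain ⟨j₁, hj₁⟩ := hc₁
  obtain ⟨j₂, hj₂⟩ := hc₂
  obtain ⟨i, hi⟩ := hh
  have hh' : h = 3 * ε + 4 * i := by linarith
  have hc₁' : c₁ = δ₁ + 4 * j₁ := by linarith
  have hc₂' : c₂ = δ₂ + 4 * j₂ := by linarith
  have hb₁ : c₁ ≤ 7 ∧ -7 ≤ c₁ := by constructor <;> nlinarith [sq_nonneg c₂, sq_nonneg h]
  have hb₂ : c₂ ≤ 7 ∧ -7 ≤ c₂ := by constructor <;> nlinarith [sq_nonneg c₁, sq_nonneg h]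
  have hb : h ≤ 3 ∧ -3 ≤ h := by constructor <;> nlinarith [sq_nonneg c₁, sq_nonneg c₂]
  have key : ∀ x₁ x₂ x y₁ y₂ y : ℤ, c₁ ^ 2 = x₁ → c₂ ^ 2 = x₂ → h ^ 2 = x →
      y₁ ≤ c₁ + 16 → y₂ ≤ c₂ + 16 → y ≤ h + 16 → 0 < y₁ → 0 < y₂ → 0 < y →
      (x : ℚ) / y < 1 - (x₁ : ℚ) / y₁ - (x₂ : ℚ) / y₂ → False := by
    intro x₁ x₂ x y₁ y₂ y hx₁ hx₂ hx g₁ g₂ g p₁ p₂ p hlt
    subst hx₁ hx₂ hx
    push_cast at hlt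
    refine false_of_bounds (δ₁ := δ₁) (δ₂ := δ₂) (ε := ε) (d₁ := d₁) (d₂ := d₂) (D := D)
      (by exact_mod_cast hδ₁) (by exact_mod_cast hδ₂) (by exact_mod_cast hε) (sq_nonneg _)
      (sq_nonneg _) (sq_nonneg _) (by exact_mod_cast p₁) (by exact_mod_cast p₂)
      (by exact_mod_cast p) (by exact_mod_cast g₁.trans hd₁) (by exact_mod_cast g₂.trans hd₂)
      (by exact_mod_cast g.trans hD) hlt hE
  rcases hδ₁ with rfl | rfl <;> rcases hδ₂ with rfl | rfl <;> rcases hε with rfl | rfl <;>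
    (obtain ⟨u₁, l₁⟩ := hb₁; obtain ⟨u₂, l₂⟩ := hb₂; obtain ⟨u, l⟩ := hb) <;>
    interval_cases h <;> first
    | omega
    | (interval_cases c₁ <;> first
        | omega
        | (interval_cases c₂ <;> first
            | omega
            | (refine key _ _ _ _ _ _ rfl rfl rfl le_rfl le_rfl le_rfl
                ?_ ?_ ?_ ?_ <;> norm_num)))

end Cfsg.Agent.PComp40.SixtyFourCount
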