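import Cfsg.Agent.PComp40.SixtyFour
import Cfsg.Agent.Coherence.FrobKernel
import Cfsg.Agent.Lib.CharCore.Linear
import Cfsg.Agent.Lib.CharCore.Complete

/-!
# The characters of a kernel of order 64 in a frame

Sums of values over the linear and the nonlinear characters, and the restriction of an induced
linear character as the sum over the linear characters that induce the same function.
-/

set_option autoImplicit false
set_option linter.style.haveILetI false

namespace Cfsg.Agent.PComp40.SixtyFourCount

open BlocksDefect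
open scoped ComplexConjugate

universe u

variable {G : Type u} [Group G] {P : Sylow 2 G} {L : Type u} [Group L] [Fintype L]
  {F : Frame P L}

local notation "Irr" => Cfsg.IrrCharacter F.K

open scoped Classical in
/-- The nonprincipal linear characters of the kernel, as a finset. -/
noncomputable def lin (F : Frame P L) : Finset (Cfsg.IrrCharacter F.K) :=
  Finset.univ.filter (· ∈ F.linSet)

open scoped Classical in
/-- The nonlinear characters of the kernel, as a finset. -/
noncomputable def nonlin (F : Frame P L) : Finset (Cfsg.IrrCharacter F.K) :=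
  Finset.univ.filter fun θ => (θ : F.K → ℂ) 1 ≠ 1

theorem mem_lin {θ : Irr} : θ ∈ lin F ↔ θ ∈ F.linSet := by simp [lin]

theorem apply_one_of_lin {θ : Irr} (h : θ ∈ lin F) : (θ : F.K → ℂ) 1 = 1 := (mem_lin.1 h).1

theorem ne_oneIrr_of_lin {θ : Irr} (h : θ ∈ lin F) : θ ≠ oneIrr F.K := fun e =>
  (mem_lin.1 h).2 (congrArg Subtype.val e)

theorem sum_split (f : Irr → ℂ) :
    ∑ θ, f θ = f (oneIrr F.K) + ∑ θ ∈ lin F, f θ + ∑ θ ∈ nonlin F, f θ := by
  classical
  have h1 : (Finset.univ.filter fun θ : Irr => ¬ (θ : F.K → ℂ) 1 ≠ 1) =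
      insert (oneIrr F.K) (lin F) := by
    ext θ
    simp only [Finset.mem_filter, Finset.mem_univ, true_and, not_not, Finset.mem_insert,
      mem_lin, Frame.linSet, Set.mem_ofPred_eq]
    constructor
    · intro h
      by_cases h' : (θ : F.K → ℂ) = fun _ => 1
      · exact Or.inl (Subtype.ext h')
      · exact Or.inr ⟨h, h'⟩
    · rintro (rfl | h)
      · rfl
      · exact h.1
  rw [← Finset.sum_filter_not_add_sum_filter Finset.univ (fun θ : Irr => (θ : F.K → ℂ) 1 ≠ 1) f,
    h1, Finset.sum_insert fun h => ne_oneIrr_of_lin h rfl, nonlin]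

theorem card_kernel (hF : SixtyFour F) : Nat.card F.K = 64 := by
  rw [Nat.card_congr F.iso.toEquiv]
  exact hF.card

theorem lin_center (hF : SixtyFour F) {θ : Irr} (hθ : (θ : F.K → ℂ) 1 = 1) {z : F.K}
    (hz : z ∈ Subgroup.center F.K) : (θ : F.K → ℂ) z = 1 := by
  obtain ⟨f, hf⟩ := CharCore.IsCharacter.exists_hom_of_degree_one (CharCore.irr_isCharacter θ) hθ
  rw [← hF.commutator_eq] at hz
  rw [hf]
  simp [MonoidHom.mem_ker.1 (Abelianization.commutator_subset_ker f hz)]

theorem card_lin (hF : SixtyFour F) : (lin F).card = 15 := by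
  classical
  have h1 := CharCore.card_linearCharacters (G := F.K)
  have h2 := (commutator F.K).index_mul_card
  have h4 : Nat.card ↥(commutator F.K) = 4 := by rw [hF.commutator_eq, hF.card_center]
  rw [h4, card_kernel hF] at h2
  rw [Nat.card_eq_fintype_card, Fintype.card_subtype] at h1
  have h3 : (Finset.univ.filter fun θ : Irr => (θ : F.K → ℂ) 1 = 1) =
      insert (oneIrr F.K) (lin F) := by
    ext θ
    simp only [Finset.mem_filter, Finset.mem_univ, true_and, Finset.mem_insert,
      mem_lin, Frame.linSet, Set.mem_ofPred_eq]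
    constructor
    · intro h
      by_cases h' : (θ : F.K → ℂ) = fun _ => 1
      · exact Or.inl (Subtype.ext h')
      · exact Or.inr ⟨h, h'⟩
    · rintro (rfl | h)
      · rfl
      · exact h.1
  rw [h3, Finset.card_insert_of_notMem fun h => ne_oneIrr_of_lin h rfl] at h1
  omega

theorem sum_lin_center (hF : SixtyFour F) {z : F.K} (hz : z ∈ Subgroup.center F.K) :
    ∑ θ ∈ lin F, (θ : F.K → ℂ) z = 15 := by
  rw [Finset.sum_congr rfl fun θ h => lin_center hF (apply_one_of_lin h) hz, Finset.sum_const,
    card_lin hF]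
  norm_num

open scoped Classical in
theorem nonlin_sum_center (hF : SixtyFour F) {z : F.K} (hz : z ∈ Subgroup.center F.K) :
    ∑ θ ∈ nonlin F, (θ : F.K → ℂ) z = if z = 1 then 12 else -4 := by
  classical
  have h := CharCore.sum_degree_mul_apply z
  rw [sum_split, coe_oneIrr, Finset.sum_congr rfl (fun θ h => by rw [apply_one_of_lin h, one_mul]),
    sum_lin_center hF hz,
    Finset.sum_congr rfl (fun θ h => by rw [(hF.nonlinear θ (Finset.mem_filter.1 h).2).1]),
    ← Finset.mul_sum, card_kernel hF] at h
  split_ifs with hz1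
  · rw [if_pos hz1] at h
    push_cast at h
    linear_combination h / 4
  · rw [if_neg hz1] at h
    linear_combination h / 4

theorem sum_nonlin_off (hF : SixtyFour F) {x : F.K} (hx : x ∉ Subgroup.center F.K) :
    ∑ θ ∈ nonlin F, (θ : F.K → ℂ) x = 0 :=
  Finset.sum_eq_zero fun θ h => (hF.nonlinear θ (Finset.mem_filter.1 h).2).2 x hx

theorem sum_lin_off (hF : SixtyFour F) {x : F.K} (hx : x ∉ Subgroup.center F.K) :
    ∑ θ ∈ lin F, (θ : F.K → ℂ) x = -1 := by
  classical
  have h := CharCore.sum_degree_mul_apply x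
  rw [sum_split, coe_oneIrr, Finset.sum_congr rfl (fun θ h => by rw [apply_one_of_lin h, one_mul]),
    Finset.sum_congr (s₂ := nonlin F) rfl
      (fun θ h => by rw [(hF.nonlinear θ (Finset.mem_filter.1 h).2).1]),
    ← Finset.mul_sum, sum_nonlin_off hF hx, if_neg (show x ≠ 1 from fun e => hx (e.symm ▸ one_mem _))] at h
  linear_combination h

/-- The principal character induced to the frame is the index on the kernel. -/
theorem indFun_one (hF : SixtyFour F) (k : F.K) :
    Cfsg.indFun F.K (fun _ => (1 : ℂ)) (k : L) = 3 := by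
  rw [OddChar.indFun_coe]
  simp only [OddChar.conjBy, Finset.sum_const, Finset.card_univ, nsmul_eq_mul, mul_one]
  rw [Fintype.card_eq_nat_card, ← Subgroup.index_mul_card F.K, hF.index, Nat.cast_mul]
  field_simp [CharInd.natCard_subgroup_ne_zero F.K]
  norm_num

theorem indFun_irr {θ : Irr} (hθ : θ ≠ oneIrr F.K) :
    Cfsg.IsIrrCharacter L (Cfsg.indFun F.K (θ : F.K → ℂ)) := by
  refine Coherence.frob_seq_irr F.K F.centralizer_le (A := ⊥) ⟨θ, θ.2,
    fun e => hθ (Subtype.ext e), fun a ha => ?_, rfl⟩
  rw [show a = 1 from Subtype.ext (Subgroup.mem_bot.1 ha)]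

open scoped Classical in
/-- The linear characters inducing the same function as `θ`. -/
noncomputable def fibre (θ : Irr) : Finset (Cfsg.IrrCharacter F.K) :=
  (lin F).filter fun θ' =>
    Cfsg.indFun F.K (θ' : F.K → ℂ) = Cfsg.indFun F.K (θ : F.K → ℂ)

theorem indFun_eq_sum (hF : SixtyFour F) {θ : Irr} (hθ : θ ∈ lin F) (k : F.K) :
    Cfsg.indFun F.K (θ : F.K → ℂ) (k : L) = ∑ θ' ∈ fibre θ, (θ' : F.K → ℂ) k := by
  classical
  have hi := indFun_irr (ne_oneIrr_of_lin hθ)
  let g : F.K → ℂ := fun k => Cfsg.indFun F.K (θ : F.K → ℂ) (k : L)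
  have hg : Cfsg.IsClassFunction F.K g := fun a b =>
    CharInd.isClassFunction_indFun F.K _ (a : L) (b : L)
  have hin : ∀ θ' : Irr, Cfsg.classInner g θ' = if θ' ∈ fibre θ then 1 else 0 := by
    intro θ'
    by_cases h1 : θ' = oneIrr F.K
    · have h : θ' ∉ fibre θ := fun h => ne_oneIrr_of_lin (Finset.mem_filter.1 h).1 h1
      rw [if_neg h, h1, ← CharInd.classInner_indFun_right F.K _
        (CharInd.isClassFunction_indFun F.K _), CharInd.classInner_indFun_left F.K _
        (CharInd.isClassFunction_indFun F.K _)]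
      have e : (fun k : F.K => Cfsg.indFun F.K (oneIrr F.K : F.K → ℂ) (k : L)) =
          (3 : ℂ) • (oneIrr F.K : F.K → ℂ) := by
        funext k
        rw [coe_oneIrr, indFun_one hF]
        simp
      rw [e, CharCore.classInner_smul_right,
        CharCore.classInner_irr_of_ne (ne_oneIrr_of_lin hθ), mul_zero]
    · rw [← CharInd.classInner_indFun_right F.K _ (CharInd.isClassFunction_indFun F.K _)]
      have hi' := indFun_irr h1
      split_ifs with h
      · rw [(Finset.mem_filter.1 h).2]
        exact Coherence.irr_inner_self hi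
      · refine Coherence.irr_inner_ne hi hi' fun e => h ?_
        refine Finset.mem_filter.2 ⟨mem_lin.2 ⟨?_, fun e' => h1 (Subtype.ext e')⟩, e.symm⟩
        have e1 := congrFun e 1
        rw [CharInd.indFun_apply_one, CharInd.indFun_apply_one, apply_one_of_lin hθ, hF.index]
          at e1
        linear_combination (-(1 : ℂ) / 3) * e1
  show g k = _
  rw [CharCore.eq_sum_classInner hg]
  simp only [hin, Finset.sum_apply, Pi.smul_apply, smul_eq_mul, ite_mul, one_mul, zero_mul,
    Finset.sum_ite_mem, Finset.univ_inter]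

theorem card_fibre (hF : SixtyFour F) {θ : Irr} (hθ : θ ∈ lin F) : (fibre θ).card = 3 := by
  classical
  have h := indFun_eq_sum hF hθ 1
  rw [OneMemClass.coe_one, CharInd.indFun_apply_one, apply_one_of_lin hθ, hF.index,
    Finset.sum_congr (s₁ := fibre θ) rfl
      (fun θ' h => apply_one_of_lin (θ := θ') (Finset.mem_filter.1 h).1),
    Finset.sum_const, nsmul_eq_mul, mul_one, mul_one] at h
  exact_mod_cast h.symm

end Cfsg.Agent.PComp40.SixtyFourCount
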